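import Mathlib.RingTheory.Invariant.Basic
import Mathlib.RingTheory.Ideal.Pointwise
import Mathlib.Algebra.Algebra.Subalgebra.Operations
import Mathlib.RingTheory.Ideal.GoingUp
import Mathlib.RingTheory.IntegralClosure.IsIntegralClosure.Basic
import Mathlib.FieldTheory.Separable
import Mathlib.FieldTheory.Minpoly.Field
import Mathlib.LinearAlgebra.LinearIndependent.Basic

/-!
# Primes of a ring with a finite group action and of its invariant subrings
-/

set_option autoImplicit false

universe u v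

open Pointwise

namespace Groth.Agent.Lib.InvariantPrimes.Basic

variable {B : Type u} [CommRing B] {Γ : Type v} [Group Γ] [Finite Γ] [MulSemiringAction Γ B]

omit [Finite Γ] in
theorem mem_smul_iff (γ : Γ) (P : Ideal B) (x : B) : x ∈ γ • P ↔ γ⁻¹ • x ∈ P :=
  Ideal.mem_pointwise_smul_iff_inv_smul_mem

omit [Finite Γ] in
theorem smul_eq_self_iff (γ : Γ) (P : Ideal B) : γ • P = P ↔ ∀ x : B, x ∈ P ↔ γ • x ∈ P := by
  constructor
  · intro h x
    conv_rhs => rw [← h, mem_smul_iff, inv_smul_smul]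
  · intro h
    ext x
    rw [mem_smul_iff, h (γ⁻¹ • x), smul_inv_smul]

omit [Finite Γ] in
theorem isInvariant_subring (Ω : Subgroup Γ) : Algebra.IsInvariant (FixedPoints.subring B Ω) B Ω :=
  ⟨fun b hb => ⟨⟨b, fun ω => hb ω⟩, rfl⟩⟩

theorem isIntegral_subring (Ω : Subgroup Γ) : Algebra.IsIntegral (FixedPoints.subring B Ω) B :=
  haveI := isInvariant_subring (B := B) Ω
  Algebra.IsInvariant.isIntegral (A := FixedPoints.subring B Ω) (B := B) (G := Ω)

/-- Elements agreeing on `B ^ Ω ∩ P` differ by an element of `Ω`. -/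
theorem exists_decomposition (Ω : Subgroup Γ) (P : Ideal B) [P.IsPrime] (γ : Γ)
    (h : ∀ x : B, (∀ ω ∈ Ω, ω • x = x) → (x ∈ P ↔ γ • x ∈ P)) : ∃ ω ∈ Ω, (γ * ω) • P = P := by
  haveI := isInvariant_subring (B := B) Ω
  haveI : (γ⁻¹ • P).IsPrime := Ideal.IsPrime.smul γ⁻¹
  obtain ⟨ω, hω⟩ := Algebra.IsInvariant.exists_smul_of_under_eq (FixedPoints.subring B Ω) B Ω P (γ⁻¹ • P) (by
    ext x
    show x.1 ∈ P ↔ x.1 ∈ γ⁻¹ • P
    rw [mem_smul_iff, inv_inv]
    exact h x.1 fun ω hω => x.2 ⟨ω, hω⟩)
  refine ⟨(ω : Γ), ω.2, ?_⟩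
  rw [mul_smul, show (ω : Γ) • P = γ⁻¹ • P from hω.symm, smul_inv_smul]

/-- An element of the decomposition group fixing `B ^ Ω` modulo `P` agrees modulo `P` with an element
of `Ω`. -/
theorem exists_inertia (Ω : Subgroup Γ) (P : Ideal B) [P.IsPrime] (g : Γ) (hg : g • P = P)
    (h : ∀ x : B, (∀ ω ∈ Ω, ω • x = x) → g • x - x ∈ P) :
    ∃ δ ∈ Ω, δ • P = P ∧ ∀ x : B, g • x - δ • x ∈ P := by
  haveI := isInvariant_subring (B := B) Ω
  let A := FixedPoints.subring B Ω
  have hle : P = P.comap (MulSemiringAction.toRingEquiv Γ B g : B →+* B) :=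
    Ideal.ext fun x => (smul_eq_self_iff g P).mp hg x
  let e0 : B ⧸ P ≃+* B ⧸ P :=
    Ideal.quotientEquiv P P (MulSemiringAction.toRingEquiv Γ B g) hg.symm
  let e : (B ⧸ P) ≃ₐ[A ⧸ P.under A] (B ⧸ P) := AlgEquiv.ofRingEquiv (f := e0) fun a => by
    obtain ⟨a, rfl⟩ := Ideal.Quotient.mk_surjective a
    show Ideal.Quotient.mk P (g • (a : B)) = Ideal.Quotient.mk P (a : B)
    exact Ideal.Quotient.eq.mpr (h a.1 fun ω hω => a.2 ⟨ω, hω⟩)
  obtain ⟨σ, hσ⟩ := Ideal.Quotient.stabilizerHom_surjective Ω (P.under A) P e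
  refine ⟨σ.1.1, σ.1.2, σ.2, fun x => ?_⟩
  refine Ideal.Quotient.eq.mp ?_
  exact (DFunLike.congr_fun hσ (Ideal.Quotient.mk P x)).symm

open Classical in
/-- The decomposition ring has the same residue field as the invariant ring. -/
theorem exists_invariant_congr (P : Ideal B) [P.IsMaximal] (x : B)
    (hx : ∀ γ : Γ, γ • P = P → γ • x = x) : ∃ c : B, (∀ γ : Γ, γ • c = c) ∧ x - c ∈ P := by
  cases nonempty_fintype Γ
  set Q : Ideal B := (Finset.univ.filter fun γ : Γ => γ • P ≠ P).inf fun γ => γ • P with hQ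
  have hne : ∀ γ : Γ, γ • P ≤ P → γ • P = P := fun γ hle => by
    haveI : (γ⁻¹ • P).IsPrime := Ideal.IsPrime.smul γ⁻¹
    have h1 : P = γ⁻¹ • P := Ideal.IsMaximal.eq_of_le inferInstance (Ideal.IsPrime.ne_top inferInstance) fun z hz => by
      rw [mem_smul_iff, inv_inv]
      exact hle ((mem_smul_iff γ P _).mpr (by rwa [inv_smul_smul]))
    conv_lhs => rw [h1]
    rw [smul_inv_smul]
  have hnle : ¬ Q ≤ P := by
    rw [hQ, Ideal.IsPrime.inf_le' inferInstance]
    rintro ⟨γ, hγ, hle⟩
    exact (Finset.mem_filter.mp hγ).2 (hne γ hle)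
  obtain ⟨q, hqQ, hqP⟩ := SetLike.not_le_iff_exists.mp hnle
  obtain ⟨b, i, hi, hbi⟩ := Ideal.IsMaximal.exists_inv (I := P) inferInstance hqP
  let D := MulAction.stabilizer Γ P
  set z : B := ∏ δ : D, (δ : Γ) • (b * q) with hz
  have hzQ : z ∈ Q := by
    rw [hz, ← Finset.mul_prod_erase _ _ (Finset.mem_univ (1 : D)), OneMemClass.coe_one, one_smul]
    exact Ideal.mul_mem_right _ _ (Ideal.mul_mem_left _ _ hqQ)
  have hzP : Ideal.Quotient.mk P z = 1 := by
    rw [hz, map_prod]
    refine Finset.prod_eq_one fun δ _ => ?_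
    rw [← map_one (Ideal.Quotient.mk P), Ideal.Quotient.eq,
      show (δ : Γ) • (b * q) - 1 = (δ : Γ) • (b * q - 1) by rw [smul_sub, smul_one],
      ← (smul_eq_self_iff _ P).mp δ.2, show b * q - 1 = -i by rw [← hbi]; ring]
    exact P.neg_mem hi
  have hzD : ∀ γ ∈ D, γ • z = z := fun γ hγ => by
    rw [hz, Finset.smul_prod']
    exact Fintype.prod_bijective (fun δ => (⟨γ, hγ⟩ : D) * δ) (Group.mulLeft_bijective (⟨γ, hγ⟩ : D)) _ _
      fun δ => (mul_smul γ (δ : Γ) _).symm
  have hyD : ∀ γ ∈ D, γ • (x * z) = x * z := fun γ hγ => by rw [smul_mul', hx γ hγ, hzD γ hγ]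
  let f : Γ ⧸ D → B := Quotient.lift (fun γ : Γ => γ • (x * z)) (fun a a' ha => by
    have h1 : a⁻¹ * a' ∈ D := QuotientGroup.leftRel_apply.mp ha
    show a • (x * z) = a' • (x * z)
    conv_lhs => rw [← hyD _ h1, smul_smul, mul_inv_cancel_left])
  refine ⟨∑ c : Γ ⧸ D, f c, fun γ => ?_, ?_⟩
  · rw [Finset.smul_sum]
    refine Fintype.sum_bijective (γ • ·) (MulAction.bijective γ) _ _ fun c => ?_
    obtain ⟨a, rfl⟩ := QuotientGroup.mk_surjective c
    exact (mul_smul γ a _).symm
  · rw [← Ideal.Quotient.eq, map_sum, Finset.sum_eq_single ((1 : Γ) : Γ ⧸ D)]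
    · show Ideal.Quotient.mk P x = Ideal.Quotient.mk P ((1 : Γ) • (x * z))
      rw [one_smul, map_mul, hzP, mul_one]
    · intro c _ hc
      obtain ⟨a, rfl⟩ := QuotientGroup.mk_surjective c
      refine Ideal.Quotient.eq_zero_iff_mem.mpr ?_
      show a • (x * z) ∈ P
      have ha : a⁻¹ • P ≠ P := fun h => hc (QuotientGroup.eq.mpr (by
        rw [mul_one]; exact MulAction.mem_stabilizer_iff.mpr h))
      have h1 : x * z ∈ a⁻¹ • P := Finset.inf_le (f := fun γ : Γ => γ • P)
        (Finset.mem_filter.mpr ⟨Finset.mem_univ a⁻¹, ha⟩) (Ideal.mul_mem_left _ _ hzQ)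
      rwa [mem_smul_iff, inv_inv] at h1
    · exact fun h => absurd (Finset.mem_univ _) h

/-- The inertia ring cuts out the separable closure. -/
theorem inertia_separable_iff (P : Ideal B) [P.IsMaximal] (x : B) :
    (∃ y : B, (∀ γ : Γ, γ ∈ P.inertia Γ → γ • y = y) ∧ x - y ∈ P) ↔
      ∃ g : Polynomial B, (∀ (i : ℕ) (γ : Γ), γ • g.coeff i = g.coeff i) ∧
        (g.map (Ideal.Quotient.mk P)).Separable ∧ Polynomial.aeval x g ∈ P := by
  classical
  cases nonempty_fintype Γ
  let _ : Field (B ⧸ P) := Ideal.Quotient.field P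
  set T := P.inertia Γ with hT
  set D := MulAction.stabilizer Γ P with hD
  haveI := isInvariant_subring (B := B) T
  haveI := isIntegral_subring (B := B) T
  let C := FixedPoints.subring B T
  let m := Ideal.Quotient.mk P
  haveI : (P.under C).IsMaximal := Ideal.IsMaximal.under C P
  let _ : Field (C ⧸ P.under C) := Ideal.Quotient.field _
  have hnorm : ∀ δ ∈ D, ∀ t ∈ T, δ⁻¹ * t * δ ∈ T := fun δ hδ t ht w => by
    show _ ∈ P
    rw [mul_smul, mul_smul, show δ⁻¹ • t • δ • w - w = δ⁻¹ • (t • (δ • w) - δ • w) by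
      rw [smul_sub, inv_smul_smul], (smul_eq_self_iff δ P).mp hδ, smul_inv_smul]
    exact ht _
  have hCD : ∀ δ ∈ D, ∀ c : C, ∀ t ∈ T, t • δ • (c : B) = δ • (c : B) := fun δ hδ c t ht => by
    have := c.2 ⟨δ⁻¹ * t * δ, hnorm δ hδ t ht⟩
    change (δ⁻¹ * t * δ) • (c : B) = (c : B) at this
    conv_rhs => rw [← this]
    rw [mul_smul, mul_smul, smul_inv_smul]
  constructor
  · rintro ⟨y, hy, hxy⟩
    let y' : C := ⟨y, fun t => hy t t.2⟩
    -- the distinct conjugates of `y` modulo `P`
    let S : Finset (B ⧸ P) := Finset.univ.image fun δ : D => m ((δ : Γ) • y)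
    let gbar : Polynomial (B ⧸ P) := ∏ a ∈ S, (Polynomial.X - Polynomial.C a)
    have hsep : gbar.Separable := Polynomial.separable_prod_X_sub_C_iff'.mpr fun a _ b _ h => h
    let act : D → (B ⧸ P ≃+* B ⧸ P) := fun δ =>
      Ideal.quotientEquiv P P (MulSemiringAction.toRingEquiv Γ B δ) δ.2.symm
    have hact : ∀ (δ : D) (w : B), act δ (m w) = m ((δ : Γ) • w) := fun δ w => rfl
    have hcoef : ∀ i, ∃ b : B, (∀ γ : Γ, γ • b = b) ∧ m b = gbar.coeff i := by
      intro i
      -- the coefficient comes from the inertia ring and is invariant under the decomposition group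
      obtain ⟨z, hz⟩ : ∃ z : C, m z = gbar.coeff i := by
        have hmem : gbar ∈ Polynomial.lifts (m.comp C.subtype) := by
          refine prod_mem fun a ha => ?_
          obtain ⟨δ, -, rfl⟩ := Finset.mem_image.mp ha
          refine (Polynomial.mem_lifts _).mpr ⟨Polynomial.X - Polynomial.C (⟨(δ : Γ) • y, fun t => hCD δ δ.2 y' t t.2⟩ : C), ?_⟩
          rw [Polynomial.map_sub, Polynomial.map_X, Polynomial.map_C]
          rfl
        obtain ⟨z, hz⟩ := (Polynomial.lifts_iff_coeff_lifts _).mp hmem i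
        exact ⟨z, hz⟩
      have hfix : ∀ δ : D, m ((δ : Γ) • (z : B)) = m z := by
        intro δ
        have himg : S.image (act δ) = S := by
          refine Finset.eq_of_subset_of_card_le (fun a ha => ?_) (by rw [Finset.card_image_of_injective _ (act δ).injective])
          obtain ⟨b, hb, rfl⟩ := Finset.mem_image.mp ha
          obtain ⟨δ', -, rfl⟩ := Finset.mem_image.mp hb
          exact Finset.mem_image.mpr ⟨δ * δ', Finset.mem_univ _, by rw [hact]; exact congrArg m (mul_smul (δ : Γ) δ' y)⟩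
        have hmap : gbar.map (act δ : B ⧸ P →+* B ⧸ P) = gbar := by
          simp only [gbar, Polynomial.map_prod, Polynomial.map_sub, Polynomial.map_X, Polynomial.map_C]
          conv_rhs => rw [← himg, Finset.prod_image fun a _ b _ h => (act δ).injective h]
          rfl
        rw [← hact, hz]
        conv_rhs => rw [← hmap, Polynomial.coeff_map]
        rfl
      -- distinct elements of `D / T` act distinctly on the residue field of the inertia ring
      let Dq := D ⧸ T.subgroupOf D
      let χ : Dq → (C →* B ⧸ P) := Quotient.lift (fun δ : D =>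
        ((m : B →* B ⧸ P).comp ((MulSemiringAction.toRingHom Γ B δ : B →* B).comp (C.subtype : C →* B)))) fun a a' ha => by
          refine MonoidHom.ext fun c => congrArg m ?_
          have h1 : (a : Γ)⁻¹ * a' ∈ T := Subgroup.mem_subgroupOf.mp (QuotientGroup.leftRel_apply.mp ha)
          have h2 : ((a : Γ)⁻¹ * a') • (c : B) = c := c.2 ⟨_, h1⟩
          show (a : Γ) • (c : B) = (a' : Γ) • (c : B)
          conv_lhs => rw [← h2, smul_smul, mul_inv_cancel_left]
      have hχ : Function.Injective χ := by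
        intro q q' hqq
        obtain ⟨a, rfl⟩ := QuotientGroup.mk_surjective q
        obtain ⟨a', rfl⟩ := QuotientGroup.mk_surjective q'
        refine QuotientGroup.eq.mpr ?_
        rw [Subgroup.mem_subgroupOf]
        obtain ⟨t, ht, -, hd⟩ := exists_inertia T P ((a⁻¹ * a' : D) : Γ) (a⁻¹ * a').2 fun w hw => by
          have h1 : m ((a : Γ) • w) = m ((a' : Γ) • w) := DFunLike.congr_fun hqq ⟨w, fun t => hw t t.2⟩
          have h2 := congrArg (act a⁻¹) h1
          rw [hact, hact, smul_smul, smul_smul] at h2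
          refine Ideal.Quotient.eq.mp (Eq.trans h2.symm ?_)
          rw [show ((a⁻¹ : D) : Γ) * (a : Γ) = 1 from inv_mul_cancel _, one_smul]
        intro w
        have := add_mem (hd w) (ht w)
        rwa [sub_add_sub_cancel] at this
      have hsum : ∃ c : C, ∑ q, χ q c ≠ 0 := by
        by_contra hall
        push Not at hall
        have hli := (linearIndependent_monoidHom C (B ⧸ P)).comp χ hχ
        have := Fintype.linearIndependent_iff.mp hli (fun _ => 1) (funext fun c => by
          simpa using hall c) ((1 : D) : Dq)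
        exact one_ne_zero this
      obtain ⟨c, hc⟩ := hsum
      let φ : C → B := fun w => ∑ q : Dq, ((Quotient.out q : D) : Γ) • (w : B)
      have hφ : ∀ w, m (φ w) = ∑ q, χ q w := fun w => by
        rw [map_sum]
        refine Finset.sum_congr rfl fun q _ => ?_
        conv_rhs => rw [← Quotient.out_eq q]
        rfl
      have hφfix : ∀ w, ∀ δ : Γ, δ • P = P → δ • φ w = φ w := fun w δ hδ => by
        simp only [φ, Finset.smul_sum]
        refine Fintype.sum_bijective ((⟨δ, hδ⟩ : D) • ·) (MulAction.bijective _) _ _ fun q => ?_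
        have h1 : ((⟨δ, hδ⟩ : D) * Quotient.out q)⁻¹ * Quotient.out ((⟨δ, hδ⟩ : D) • q) ∈ T.subgroupOf D := by
          rw [← QuotientGroup.eq]
          conv_lhs => rw [← smul_eq_mul, ← MulAction.Quotient.smul_mk, QuotientGroup.out_eq']
          rw [QuotientGroup.out_eq']
        have h2 : (((⟨δ, hδ⟩ : D) * Quotient.out q)⁻¹ * Quotient.out ((⟨δ, hδ⟩ : D) • q) : D).1 • (w : B) = (w : B) :=
          w.2 ⟨_, h1⟩
        conv_lhs => rw [← h2]
        rw [smul_smul, smul_smul]
        congr 1
        simp [mul_assoc]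
      have hw : ∀ w, ∑ q, χ q (z * w) = m z * ∑ q, χ q w := fun w => by
        rw [Finset.mul_sum]
        refine Finset.sum_congr rfl fun q _ => ?_
        rw [map_mul]
        congr 1
        obtain ⟨a, rfl⟩ := QuotientGroup.mk_surjective q
        exact hfix a
      obtain ⟨u1, hu1, hu1'⟩ := exists_invariant_congr P (φ c) (hφfix c)
      obtain ⟨u2, hu2, hu2'⟩ := exists_invariant_congr P (φ (z * c)) (hφfix _)
      haveI := isIntegral_subring (B := B) (⊤ : Subgroup Γ)
      let G0 := FixedPoints.subring B (⊤ : Subgroup Γ)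
      haveI : (P.under G0).IsMaximal := Ideal.IsMaximal.under G0 P
      obtain ⟨b, i', hi', hbi⟩ := Ideal.IsMaximal.exists_inv (I := P.under G0) inferInstance
        (x := ⟨u1, fun γ => hu1 γ.1⟩) (fun h => hc (by
          rw [← hφ, show m (φ c) = m u1 from Ideal.Quotient.eq.mpr hu1']
          exact Ideal.Quotient.eq_zero_iff_mem.mpr h))
      refine ⟨(b : B) * u2, fun γ => by rw [smul_mul', hu2 γ, show γ • (b : B) = b from b.2 ⟨γ, trivial⟩], ?_⟩
      have h3 : m (b : B) * m u1 = 1 := by
        have h4 : (b : B) * u1 + (i' : B) = 1 := congrArg Subtype.val hbi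
        rw [← map_mul, ← map_one m]
        refine Ideal.Quotient.eq.mpr ?_
        rw [← h4, sub_add_cancel_left]
        exact P.neg_mem hi'
      rw [map_mul, ← show m (φ (z * c)) = m u2 from Ideal.Quotient.eq.mpr hu2', hφ, hw, ← hφ,
        show m (φ c) = m u1 from Ideal.Quotient.eq.mpr hu1', ← mul_assoc, mul_right_comm, h3, one_mul, hz]
    choose b hb1 hb2 using hcoef
    let g : Polynomial B := ∑ i ∈ Finset.range (gbar.natDegree + 1), Polynomial.monomial i (b i)
    have hgm : g.map m = gbar := by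
      simp only [g, Polynomial.map_sum, Polynomial.map_monomial, hb2]
      exact gbar.as_sum_range.symm
    refine ⟨g, fun i γ => ?_, hgm ▸ hsep, ?_⟩
    · simp only [g, Polynomial.finsetSum_coeff, Polynomial.coeff_monomial, Finset.smul_sum, smul_ite, hb1, smul_zero]
    · rw [← Ideal.Quotient.eq_zero_iff_mem]
      show m (Polynomial.aeval x g) = 0
      rw [Polynomial.aeval_def, Polynomial.hom_eval₂, Algebra.algebraMap_self, RingHom.comp_id,
        ← Polynomial.eval_map, hgm]
      simp only [gbar, Polynomial.eval_prod]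
      refine Finset.prod_eq_zero (Finset.mem_image.mpr ⟨1, Finset.mem_univ _, rfl⟩) ?_
      simp only [Polynomial.eval_sub, Polynomial.eval_X, Polynomial.eval_C, OneMemClass.coe_one, one_smul]
      exact sub_eq_zero.mpr (Ideal.Quotient.eq.mpr hxy)
  · rintro ⟨g, hg, hsep, hgx⟩
    let F := C ⧸ P.under C
    let a : B ⧸ P := m x
    -- `x` is killed by the orbit polynomial over the inertia ring
    let pT : Polynomial B := ∏ t : T, (Polynomial.X - Polynomial.C ((t : Γ) • x))
    have hpT : pT.map m = (Polynomial.X - Polynomial.C a) ^ Fintype.card T := by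
      simp only [pT, Polynomial.map_prod, Polynomial.map_sub, Polynomial.map_X, Polynomial.map_C]
      rw [Finset.prod_congr rfl fun t _ => by rw [show m ((t : Γ) • x) = a from Ideal.Quotient.eq.mpr (t.2 x)],
        Finset.prod_const, Finset.card_univ]
    have hlift : ∀ q : Polynomial B, (∀ i, ∀ t ∈ T, t • q.coeff i = q.coeff i) →
        ∃ Q : Polynomial F, Q.map (algebraMap F (B ⧸ P)) = q.map m := by
      intro q hq
      refine ⟨∑ i ∈ Finset.range (q.natDegree + 1),
        Polynomial.monomial i (Ideal.Quotient.mk _ (⟨q.coeff i, fun t => hq i t t.2⟩ : C)), ?_⟩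
      rw [Polynomial.map_sum]
      conv_rhs => rw [q.as_sum_range, Polynomial.map_sum]
      exact Finset.sum_congr rfl fun i _ => by rw [Polynomial.map_monomial, Polynomial.map_monomial]; rfl
    obtain ⟨G, hG⟩ := hlift g fun i t _ => hg i t
    obtain ⟨PT, hPT⟩ := hlift pT fun i t ht => by
      have h1 : t • pT = pT := by
        simp only [pT, Finset.smul_prod', smul_sub, Polynomial.smul_X, Polynomial.smul_C]
        exact Fintype.prod_bijective (fun s => (⟨t, ht⟩ : T) * s) (Group.mulLeft_bijective (⟨t, ht⟩ : T)) _ _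
          fun s => by rw [smul_smul]; rfl
      conv_rhs => rw [← h1, Polynomial.coeff_smul]
    have hGa : Polynomial.aeval a G = 0 := by
      rw [Polynomial.aeval_def, ← Polynomial.eval_map, hG, Polynomial.eval_map]
      rw [← Ideal.Quotient.eq_zero_iff_mem, Polynomial.aeval_def, Polynomial.hom_eval₂, Algebra.algebraMap_self,
        RingHom.comp_id] at hgx
      exact hgx
    have hPa : Polynomial.aeval a PT = 0 := by
      rw [Polynomial.aeval_def, ← Polynomial.eval_map, hPT, hpT, Polynomial.eval_pow, Polynomial.eval_sub,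
        Polynomial.eval_X, Polynomial.eval_C, sub_self, zero_pow Fintype.card_ne_zero]
    have hint : IsIntegral F a := Algebra.IsIntegral.isIntegral (R := F) a
    have hd1 : (minpoly F a).map (algebraMap F (B ⧸ P)) ∣ g.map m := hG ▸ Polynomial.map_dvd _ (minpoly.dvd F a hGa)
    have hd2 : (minpoly F a).map (algebraMap F (B ⧸ P)) ∣ (Polynomial.X - Polynomial.C a) ^ Fintype.card T :=
      hpT ▸ hPT ▸ Polynomial.map_dvd _ (minpoly.dvd F a hPa)
    have hdeg : (minpoly F a).natDegree = 1 := by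
      have h1 := Polynomial.natDegree_le_of_dvd (p := (minpoly F a).map (algebraMap F (B ⧸ P)))
        ((hsep.of_dvd hd1).squarefree.isRadical _ _ hd2) (Polynomial.X_sub_C_ne_zero a)
      rw [Polynomial.natDegree_map, Polynomial.natDegree_X_sub_C] at h1
      exact le_antisymm h1 (minpoly.natDegree_pos hint)
    obtain ⟨c, hc⟩ := (minpoly.natDegree_eq_one_iff).mp hdeg
    obtain ⟨y, rfl⟩ := Ideal.Quotient.mk_surjective c
    exact ⟨(y : B), fun γ hγ => y.2 ⟨γ, hγ⟩, Ideal.Quotient.eq.mp hc.symm⟩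

end Groth.Agent.Lib.InvariantPrimes.Basic
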